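import Cfsg.Agent.Lib.Helper48.X27.Defs

set_option autoImplicit false
open scoped MatrixGroups

namespace Cfsg.Agent.Lib.Helper83.X27

open Cfsg.Agent.Lib.Helper48.X27

universe u

section

variable {F : Type u} [Field F]

/-- A `3 × 3` involution of determinant 1 which is not scalar is conjugate to `negP`
(characteristic not 2). -/
theorem invol_frame (h2 : (2 : F) ≠ 0) (X : Matrix (Fin 3) (Fin 3) F) (hX2 : X * X = 1)
    (hdet : X.det = 1) (hns : ∀ c : F, X ≠ c • (1 : Matrix (Fin 3) (Fin 3) F)) :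
    ∃ u : Matrix (Fin 3) (Fin 3) F, IsUnit u ∧ X * u = u * negP := by
  have hXX : ∀ v, X.mulVec (X.mulVec v) = v := by
    intro v; rw [Matrix.mulVec_mulVec, hX2, Matrix.one_mulVec]
  obtain ⟨w, hw⟩ : ∃ w, X.mulVec w ≠ w := by
    by_contra h
    push Not at h
    apply hns 1
    rw [one_smul]
    apply Matrix.mulVec_injective
    funext x
    rw [Matrix.one_mulVec]; exact h x
  obtain ⟨w', hw'⟩ : ∃ w, X.mulVec w ≠ -w := by
    by_contra h
    push Not at h
    apply hns (-1)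
    apply Matrix.mulVec_injective
    funext x
    rw [h x, Matrix.smul_mulVec, Matrix.one_mulVec, neg_one_smul]
  obtain ⟨vm, hvm⟩ : ∃ vm, vm = X.mulVec w - w := ⟨_, rfl⟩
  obtain ⟨vp, hvp⟩ : ∃ vp, vp = X.mulVec w' + w' := ⟨_, rfl⟩
  have hvm0 : vm ≠ 0 := by rw [hvm]; exact sub_ne_zero.mpr hw
  have hvp0 : vp ≠ 0 := by
    rw [hvp]; intro h; exact hw' (eq_neg_of_add_eq_zero_left h)
  have hXvm : X.mulVec vm = -vm := by rw [hvm, Matrix.mulVec_sub, hXX]; abel
  have hXvp : X.mulVec vp = vp := by rw [hvp, Matrix.mulVec_add, hXX]; abel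
  have h11 : (1 : F) ≠ -1 := by
    intro h; apply h2; linear_combination h
  have hli2 : LinearIndependent F ![vp, vm] := by
    have hinj : Function.Injective (![1, -1] : Fin 2 → F) := by
      intro i j hij
      fin_cases i <;> fin_cases j <;>
        first
        | rfl
        | exact (h11 hij).elim
        | exact (h11 hij.symm).elim
    refine Module.End.eigenvectors_linearIndependent' X.mulVecLin ![1, -1] hinj _ ?_
    intro i
    rw [Module.End.hasEigenvector_iff, Module.End.mem_eigenspace_iff]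
    fin_cases i
    · exact ⟨by simpa using hXvp, by simpa using hvp0⟩
    · exact ⟨by simpa using hXvm, by simpa using hvm0⟩
  obtain ⟨t, ht⟩ := exists_linearIndependent_snoc_of_lt_finrank hli2
    (by rw [Module.finrank_fin_fun]; norm_num)
  obtain ⟨u0, hu0⟩ : ∃ u0 : Matrix (Fin 3) (Fin 3) F,
      u0 = Matrix.of (fun i j => (Fin.snoc ![vp, vm] t : Fin 3 → Fin 3 → F) j i) := ⟨_, rfl⟩
  have hu0unit : IsUnit u0 := by
    rw [← Matrix.linearIndependent_cols_iff_isUnit]
    have : u0.col = Fin.snoc ![vp, vm] t := by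
      funext j i
      rw [hu0]
      rfl
    rw [this]
    exact ht
  have g0 : ∀ i, u0 i 0 = vp i := by intro i; rw [hu0]; rfl
  have g1 : ∀ i, u0 i 1 = vm i := by intro i; rw [hu0]; rfl
  have g2 : ∀ i, u0 i 2 = t i := by intro i; rw [hu0]; rfl
  have hc0 : ∀ (m : Matrix (Fin 3) (Fin 3) F) (i : Fin 3), (m * u0) i 0 = (m.mulVec vp) i := by
    intro m i; rw [hu0]; rfl
  have hc1 : ∀ (m : Matrix (Fin 3) (Fin 3) F) (i : Fin 3), (m * u0) i 1 = (m.mulVec vm) i := by
    intro m i; rw [hu0]; rfl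
  have hc2 : ∀ (m : Matrix (Fin 3) (Fin 3) F) (i : Fin 3), (m * u0) i 2 = (m.mulVec t) i := by
    intro m i; rw [hu0]; rfl
  obtain ⟨c, hc⟩ : ∃ c : Fin 3 → F, u0.mulVec c = X.mulVec t := by
    obtain ⟨u0i, hu0i⟩ := hu0unit.exists_right_inv
    exact ⟨u0i.mulVec (X.mulVec t), by rw [Matrix.mulVec_mulVec, hu0i, Matrix.one_mulVec]⟩
  obtain ⟨N, hN⟩ : ∃ N : Matrix (Fin 3) (Fin 3) F, N = !![1, 0, c 0; 0, -1, c 1; 0, 0, c 2] :=
    ⟨_, rfl⟩
  have hXu0 : X * u0 = u0 * N := by
    have hs0 : ∀ i, (u0 * N) i 0 = u0 i 0 := by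
      intro i; rw [Matrix.mul_apply, Fin.sum_univ_three, hN]; simp
    have hs1 : ∀ i, (u0 * N) i 1 = -u0 i 1 := by
      intro i; rw [Matrix.mul_apply, Fin.sum_univ_three, hN]; simp
    have hs2 : ∀ i, (u0 * N) i 2 = u0 i 0 * c 0 + u0 i 1 * c 1 + u0 i 2 * c 2 := by
      intro i; rw [Matrix.mul_apply, Fin.sum_univ_three, hN]; simp
    ext i j
    fin_cases j
    · show (X * u0) i 0 = (u0 * N) i 0
      rw [hc0, hs0, hXvp, g0]
    · show (X * u0) i 1 = (u0 * N) i 1
      rw [hc1, hs1, hXvm, g1]; rfl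
    · show (X * u0) i 2 = (u0 * N) i 2
      rw [hc2, hs2, ← hc, Matrix.mulVec, dotProduct, Fin.sum_univ_three]
  have hdu0 : u0.det ≠ 0 := ((Matrix.isUnit_iff_isUnit_det _).mp hu0unit).ne_zero
  have hdetN : N.det = 1 := by
    have h := congrArg Matrix.det hXu0
    rw [Matrix.det_mul, Matrix.det_mul, hdet, one_mul] at h
    have h' : u0.det * N.det = u0.det * 1 := by rw [← h, mul_one]
    exact mul_left_cancel₀ hdu0 h'
  have hc2' : c 2 = -1 := by
    rw [hN, Matrix.det_fin_three] at hdetN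
    simp at hdetN
    linear_combination -hdetN
  have hNN : N * N = 1 := by
    apply hu0unit.mul_right_injective
    show u0 * (N * N) = u0 * 1
    rw [← mul_assoc, ← hXu0, mul_assoc, ← hXu0, ← mul_assoc, hX2, one_mul, mul_one]
  have hc1' : c 1 = 0 := by
    have h := congrFun (congrFun hNN 1) 2
    rw [Matrix.mul_apply, Fin.sum_univ_three, hN] at h
    simp [hc2'] at h
    have h4 : (2 : F) * c 1 = 0 := by linear_combination -h
    rcases mul_eq_zero.mp h4 with h5 | h5
    · exact (h2 h5).elim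
    · exact h5
  obtain ⟨β, hβ⟩ : ∃ β : F, c 0 = 2 * β := ⟨c 0 / 2, by field_simp⟩
  rw [hβ, hc1', hc2'] at hN
  obtain ⟨C, hC⟩ : ∃ C : Matrix (Fin 3) (Fin 3) F,
      C = !![0, 1 - β, -1 - β; 1, 0, 0; 0, 1, 1] := ⟨_, rfl⟩
  have hCdet : C.det = -2 := by
    rw [hC, Matrix.det_fin_three]
    simp
    ring
  have hCunit : IsUnit C := by
    rw [Matrix.isUnit_iff_isUnit_det, hCdet]
    exact IsUnit.mk0 _ (neg_ne_zero.mpr h2)
  have hNC : N * C = C * negP := by
    rw [hN, hC]
    ext i j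
    fin_cases i <;> fin_cases j <;>
      simp [negP, Matrix.mul_apply, Fin.sum_univ_three] <;> ring
  refine ⟨u0 * C, hu0unit.mul hCunit, ?_⟩
  rw [← mul_assoc, hXu0, mul_assoc, hNC, ← mul_assoc]

end

theorem pkgInvDiag : PkgInvDiag.{u} := by
  intro F _ h2 x hx hx2 hxns
  obtain ⟨z, hz⟩ := hx2
  have hdet : (x : Matrix (Fin 3) (Fin 3) F).det = 1 := by
    have h : Matrix.GeneralLinearGroup.det x = 1 := MonoidHom.mem_ker.mp hx
    have h' := congrArg Units.val h
    rw [Matrix.GeneralLinearGroup.val_det_apply, Units.val_one] at h'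
    exact h'
  have hXX : (x : Matrix (Fin 3) (Fin 3) F) * (x : Matrix (Fin 3) (Fin 3) F) =
      z • (1 : Matrix (Fin 3) (Fin 3) F) := by
    rw [← hz, pow_two, Units.val_mul]
  have hz3 : z ^ 3 = 1 := by
    have h := congrArg Matrix.det hXX
    rw [Matrix.det_mul, hdet, Matrix.det_smul, Matrix.det_one, Fintype.card_fin, mul_one,
      mul_one] at h
    exact h.symm
  obtain ⟨u, hu, hXu⟩ := invol_frame h2 (z • (x : Matrix (Fin 3) (Fin 3) F))
    (by
      rw [Matrix.smul_mul, Matrix.mul_smul, hXX, smul_smul, smul_smul]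
      have : z * z * z = 1 := by rw [← hz3]; ring
      rw [this, one_smul])
    (by rw [Matrix.det_smul, hdet, Fintype.card_fin, hz3, mul_one])
    (by
      intro c hc
      apply hxns (z ^ 2 * c)
      have h := congrArg (fun M : Matrix (Fin 3) (Fin 3) F => z ^ 2 • M) hc
      simp only [smul_smul] at h
      have e : z ^ 2 * z = 1 := by rw [← hz3]; ring
      rw [e, one_smul] at h
      exact h)
  refine ⟨hu.unit, z ^ 2, ?_⟩
  have hxu : (x : Matrix (Fin 3) (Fin 3) F) * u = z ^ 2 • (u * negP) := by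
    rw [← hXu, Matrix.smul_mul, smul_smul]
    have e : z ^ 2 * z = 1 := by rw [← hz3]; ring
    rw [e, one_smul]
  have hinv : ((hu.unit⁻¹ : GL (Fin 3) F) : Matrix (Fin 3) (Fin 3) F) * u = 1 := by
    have h := Units.inv_mul hu.unit
    rw [hu.unit_spec] at h
    exact h
  rw [Units.val_mul, Units.val_mul, mul_assoc, hu.unit_spec, hxu, Matrix.mul_smul, ← mul_assoc,
    hinv, one_mul]

end Cfsg.Agent.Lib.Helper83.X27
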