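import Cfsg.Agent.Lib.Helper48.X27.Defs

set_option autoImplicit false
open scoped MatrixGroups

namespace Cfsg.Agent.Lib.Helper83.X27

open Cfsg.Agent.Lib.Helper48.X27

universe u

theorem det_matA {F : Type u} [Field F] (w : F) (hw : w ^ 3 = 1) : (matA w).det = 1 := by
  rw [matA, Matrix.det_fin_three]
  simp
  linear_combination hw

theorem det_matB {F : Type u} [Field F] : (matB : Matrix (Fin 3) (Fin 3) F).det = 1 := by
  rw [matB, Matrix.det_fin_three]
  simp

theorem pkgRSL : PkgRSL.{u} := by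
  intro F _ R h ω hstd y hy
  obtain ⟨hω1, hω3, hmem⟩ := hstd
  obtain ⟨i, j, k, hijk⟩ := (hmem y).mp hy
  show y ∈ (Matrix.GeneralLinearGroup.det : GL (Fin 3) F →* Fˣ).ker
  rw [MonoidHom.mem_ker]
  have hconj : Matrix.GeneralLinearGroup.det (h⁻¹ * y * h) = Matrix.GeneralLinearGroup.det y := by
    rw [map_mul, map_mul, map_inv, mul_comm, ← mul_assoc, mul_inv_cancel, one_mul]
  rw [← hconj]
  apply Units.ext
  rw [Matrix.GeneralLinearGroup.val_det_apply, hijk, Matrix.det_smul, Matrix.det_mul,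
    Matrix.det_pow, Matrix.det_pow, det_matA ω hω3, det_matB, one_pow, one_pow, mul_one, mul_one,
    Fintype.card_fin, ← pow_mul, mul_comm, pow_mul, hω3, one_pow, Units.val_one]

end Cfsg.Agent.Lib.Helper83.X27
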